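import Mathlib.Algebra.Module.BigOperators
import Mathlib.Algebra.Ring.Int.Parity
import Mathlib.Tactic.Abel
import Mathlib.Tactic.Module
import Mathlib.Tactic.Ring
import Mathlib.Tactic.LinearCombination

/-! Maps of degree two between abelian groups. -/

set_option autoImplicit false

namespace Groth.Agent.QuadMap

universe u v

variable {A : Type u} {G : Type v} [AddCommGroup A] [AddCommGroup G] {f : A → G}

lemma T_succ (m : ℤ) : (m + 1) * (m + 1 + 1) / 2 = m * (m + 1) / 2 + (m + 1) := by
  rw [show (m + 1) * (m + 1 + 1) = m * (m + 1) + (m + 1) * 2 by ring,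
    Int.add_mul_ediv_right _ _ (by norm_num : (2 : ℤ) ≠ 0)]

lemma U_succ (m : ℤ) : (m + 1) * (m + 1 - 1) / 2 = m * (m - 1) / 2 + m := by
  rw [show (m + 1) * (m + 1 - 1) = m * (m - 1) + m * 2 by ring,
    Int.add_mul_ediv_right _ _ (by norm_num : (2 : ℤ) ≠ 0)]

/-- The closed formula. -/
def F (f : A → G) (x : A) (m : ℤ) : G :=
  (m * (m + 1) / 2) • f x + (m * (m - 1) / 2) • f (-x)

lemma F_succ (x : A) (m : ℤ) : F f x (m + 1) = F f x m + ((m + 1) • f x + m • f (-x)) := by
  simp only [F, T_succ, U_succ, add_smul]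
  abel

theorem smul_formula (hf : ∀ x y z : A, f (x + y + z) + f x + f y + f z = f (x + y) + f (x + z) + f (y + z))
    (n : ℤ) (x : A) : f (n • x) = F f x n := by
  have h0 : f 0 = 0 := by simpa using hf 0 0 0
  have hrec : ∀ m : ℤ, f ((m + 1) • x) + f ((m - 1) • x) =
      f (m • x) + f (m • x) + (f x + f (-x)) := by
    intro m
    have h := hf (m • x) x (-x)
    rw [add_neg_cancel, add_assoc (m • x) x (-x), add_neg_cancel, add_zero, h0, add_zero] at h
    rw [add_smul, sub_smul, one_smul, sub_eq_add_neg, ← h]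
    abel
  have hF : ∀ m : ℤ, F f x (m + 1) + F f x (m - 1) = F f x m + F f x m + (f x + f (-x)) := by
    intro m
    have h2 := F_succ (f := f) x (m - 1)
    rw [sub_add_cancel] at h2
    rw [F_succ x m, h2]
    simp only [add_smul, sub_smul, one_smul]
    abel
  suffices ∀ m : ℤ, f (m • x) = F f x m ∧ f ((m + 1) • x) = F f x (m + 1) from (this n).1
  intro m
  induction m with
  | zero => simp [F, h0]
  | succ k ih =>
      refine ⟨ih.2, ?_⟩
      have a := hrec (k + 1)
      have b := hF (k + 1)
      rw [add_sub_cancel_right, ih.1, ih.2] at a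
      rw [add_sub_cancel_right, ← a] at b
      exact (add_right_cancel b).symm
  | pred k ih =>
      refine ⟨?_, by simpa using ih.1⟩
      have a := hrec (-k)
      have b := hF (-k)
      rw [ih.1, ih.2] at a
      rw [← a] at b
      exact (add_left_cancel b).symm

theorem torsion (hf : ∀ x y z : A, f (x + y + z) + f x + f y + f z = f (x + y) + f (x + z) + f (y + z))
    (n : ℤ) (hn : ∀ x : A, n • x = 0) :
    (∀ x : A, (2 * n) • f x = 0) ∧ (Odd n → ∀ x : A, n • f x = 0) := by
  have h0 : f 0 = 0 := by simpa using hf 0 0 0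
  have hT : n * (n + 1) / 2 = n * (n - 1) / 2 + n := by
    rw [show n * (n + 1) = n * (n - 1) + n * 2 by ring,
      Int.add_mul_ediv_right _ _ (by norm_num : (2 : ℤ) ≠ 0)]
  have e0 : ∀ x, F f x n = 0 := fun x => by rw [← smul_formula hf n x, hn, h0]
  have e1 : ∀ x, n • f x + n • f (-x) = 0 := by
    intro x
    have h := smul_formula hf (n + 1) x
    rw [add_smul, hn, zero_add, one_smul, F_succ, e0, zero_add, add_smul, one_smul] at h
    rw [← sub_eq_zero] at h
    rw [← neg_eq_zero, ← h]
    abel
  constructor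
  · intro x
    have a := e0 x
    have b := e0 (-x)
    simp only [F, neg_neg, hT] at a b
    have c : n • f x - n • f (-x) = 0 := by
      calc n • f x - n • f (-x) = ((n * (n - 1) / 2 + n) • f x + (n * (n - 1) / 2) • f (-x)) -
            ((n * (n - 1) / 2 + n) • f (-x) + (n * (n - 1) / 2) • f x) := by
              simp only [add_smul]; abel
        _ = 0 := by rw [a, b, sub_zero]
    rw [two_mul, add_smul]
    calc n • f x + n • f x = (n • f x + n • f (-x)) + (n • f x - n • f (-x)) := by abel
      _ = 0 := by rw [e1 x, c, add_zero]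
  · rintro ⟨m, rfl⟩ x
    have a := e0 x
    have hu : (2 * m + 1) * (2 * m + 1 - 1) / 2 = m * (2 * m + 1) := by
      rw [show (2 * m + 1) * (2 * m + 1 - 1) = m * (2 * m + 1) * 2 by ring, Int.mul_ediv_cancel _ (by norm_num)]
    simp only [F, hT, hu, add_smul ((m * (2 * m + 1))) (2 * m + 1), mul_smul] at a
    rw [add_right_comm, ← smul_add, e1, smul_zero, zero_add] at a
    exact a

end Groth.Agent.QuadMap
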